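import Groth.Agent.Lib.BC8.BidualRing
import Groth.Agent.Lib.KInj.RightDerived
import Groth.Prelude.Def_DRing2
import Mathlib.RingTheory.Flat.EquationalCriterion
import Mathlib.RingTheory.Flat.Basic
import Mathlib.Algebra.Module.Injective
import Mathlib.LinearAlgebra.TensorProduct.Basic
import Mathlib.RingTheory.Finiteness.Basic

/-!
Finite Tor dimension and finite injective dimension are exchanged by a dualizing complex.
-/

set_option autoImplicit false
set_option linter.style.haveILetI false
set_option linter.unusedSectionVars false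
set_option backward.isDefEq.respectTransparency false
set_option backward.isDefEq.respectTransparency.types false

universe u

open CategoryTheory CategoryTheory.Limits CochainComplex CochainComplex.HomComplex TensorProduct

attribute [local instance] HasDerivedCategory.standard

namespace Groth.Agent.TorInj9

variable {A : Type u} [CommRing A]

/-- Maps between injective modules over a Noetherian ring form a flat module. -/
theorem flat_hom [IsNoetherianRing A] (I J : Type u) [AddCommGroup I] [Module A I] [AddCommGroup J] [Module A J]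
    [hI : Module.Injective A I] [hJ : Module.Injective A J] : Module.Flat A (I →ₗ[A] J) := by
  refine Module.Flat.of_forall_isTrivialRelation fun {l a f} hf => ?_
  let α : (Fin l → A) →ₗ[A] A := ∑ i, (LinearMap.proj i).smulRight (a i)
  have hα : ∀ v, α v = ∑ i, v i * a i := fun v => by simp [α]
  obtain ⟨m, b, hb⟩ := Submodule.fg_iff_exists_fin_generating_family.1 (IsNoetherian.noetherian (LinearMap.ker α))
  let β : (Fin l → I) →ₗ[A] (Fin m → I) := LinearMap.pi fun j => ∑ i, (b j i) • LinearMap.proj i
  have hβ : ∀ x j, β x j = ∑ i, b j i • x i := fun x j => by simp [β]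
  let u : (Fin l → I) →ₗ[A] J := ∑ i, (f i).comp (LinearMap.proj i)
  have hu : ∀ x, u x = ∑ i, f i (x i) := fun x => by simp [u]
  have hker : LinearMap.ker β ≤ LinearMap.ker u := by
    intro x hx
    rw [LinearMap.mem_ker] at hx ⊢
    let φ : (Fin l → A) →ₗ[A] I := ∑ i, (LinearMap.proj i).smulRight (x i)
    have hφ : ∀ v, φ v = ∑ i, v i • x i := fun v => by simp [φ]
    have hk : LinearMap.ker α ≤ LinearMap.ker φ := by
      rw [← hb, Submodule.span_le]
      rintro _ ⟨j, rfl⟩
      show φ (b j) = 0
      rw [hφ, ← hβ, hx]
      rfl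
    obtain ⟨y, hy⟩ := hI.out ((LinearMap.ker α).liftQ α le_rfl)
      (LinearMap.ker_eq_bot.1 (Submodule.ker_liftQ_eq_bot _ _ _ le_rfl)) ((LinearMap.ker α).liftQ φ hk)
    have hxi : ∀ i, x i = a i • y 1 := fun i => by
      have h1 := hy (Submodule.Quotient.mk (Pi.single i 1))
      rw [Submodule.liftQ_apply, Submodule.liftQ_apply, hα, hφ] at h1
      simp only [Pi.single_apply, ite_mul, one_mul, zero_mul, ite_smul, one_smul, zero_smul, Finset.sum_ite_eq',
        Finset.mem_univ, if_true] at h1
      rw [← h1, ← map_smul, smul_eq_mul, mul_one]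
    rw [hu, Finset.sum_congr rfl fun i _ => by rw [hxi i, map_smul, ← LinearMap.smul_apply],
      ← LinearMap.sum_apply, hf, LinearMap.zero_apply]
  obtain ⟨G, hG⟩ := hJ.out ((LinearMap.ker β).liftQ β le_rfl)
    (LinearMap.ker_eq_bot.1 (Submodule.ker_liftQ_eq_bot _ _ _ le_rfl)) ((LinearMap.ker β).liftQ u hker)
  refine ⟨m, fun i j => b j i, fun j => G.comp (LinearMap.single A (fun _ : Fin m => I) j), fun i => ?_, fun j => ?_⟩
  · refine LinearMap.ext fun x => ?_
    have h1 : G (β (Pi.single i x)) = u (Pi.single i x) := hG (Submodule.Quotient.mk (Pi.single i x))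
    have h2 : u (Pi.single i x) = f i x := by
      rw [hu, Finset.sum_eq_single i (fun j _ hj => by rw [Pi.single_eq_of_ne hj, map_zero])
        (fun h => absurd (Finset.mem_univ i) h), Pi.single_eq_same]
    have h3 : β (Pi.single i x) = fun j => b j i • x := funext fun j => by
      rw [hβ, Finset.sum_eq_single i (fun k _ hk => by rw [Pi.single_eq_of_ne hk, smul_zero])
        (fun h => absurd (Finset.mem_univ i) h), Pi.single_eq_same]
    rw [← h2, ← h1, h3]
    conv_lhs => rw [← Finset.univ_sum_single (fun j => b j i • x), map_sum]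
    rw [LinearMap.sum_apply]
    refine Finset.sum_congr rfl fun j _ => ?_
    show G (Pi.single j (b j i • x)) = b j i • G (Pi.single j x)
    rw [← map_smul, Pi.single_smul]
  · have h1 : b j ∈ LinearMap.ker α := by
      rw [← hb]
      exact Submodule.subset_span ⟨j, rfl⟩
    rw [LinearMap.mem_ker, hα] at h1
    rw [← h1]
    exact Finset.sum_congr rfl fun i _ => mul_comm _ _

/-- Maps from a flat module to an injective module form an injective module. -/
theorem injective_hom (E W : Type u) [AddCommGroup E] [Module A E] [AddCommGroup W] [Module A W]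
    [Module.Flat A E] [hW : Module.Injective A W] : Module.Injective A (E →ₗ[A] W) := by
  refine Module.Baer.injective fun I g => ?_
  let j : I ⊗[A] E →ₗ[A] E := (TensorProduct.lid A E).toLinearMap.comp (LinearMap.rTensor E I.subtype)
  have hj : Function.Injective j := (TensorProduct.lid A E).injective.comp
    (Module.Flat.rTensor_preserves_injective_linearMap I.subtype Subtype.val_injective)
  obtain ⟨h, hh⟩ := hW.out j hj (TensorProduct.lift g)
  refine ⟨LinearMap.toSpanSingleton A (E →ₗ[A] W) h, fun a ha => LinearMap.ext fun e => ?_⟩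
  show a • h e = g ⟨a, ha⟩ e
  rw [← map_smul]
  exact hh (⟨a, ha⟩ ⊗ₜ e)

end Groth.Agent.TorInj9
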