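import Groth.Agent.Lib.TorInj9.Basic
import Mathlib.LinearAlgebra.Pi
import Mathlib.LinearAlgebra.DirectSum.Finite
import Mathlib.Algebra.DirectSum.Module
import Mathlib.RingTheory.Flat.Stability

/-!
The equivalence between finite Tor dimension and finite injective dimension of the dual.
-/

set_option autoImplicit false
set_option linter.style.haveILetI false
set_option linter.unusedSectionVars false
set_option backward.isDefEq.respectTransparency false
set_option backward.isDefEq.respectTransparency.types false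

universe u

open CategoryTheory CategoryTheory.Limits CochainComplex CochainComplex.HomComplex DRing
open Groth.Agent.BC8.HomDual

attribute [local instance] HasDerivedCategory.standard

namespace Groth.Agent.TorInj9

/-- Right derived internal hom of complexes of modules exists. -/
theorem hasRHomCx {A : Type u} [CommRing A] (E : DRing.Cx A) : DRing.HasRHomCx E := by
  haveI : DTen.HasLTen A := KFlat.DT.hasLTen
  haveI : DTen.HasRHom A := KFlat.HomD.hasRHom A
  let α : DRing.homCxQ E ⟶ DerivedCategory.Q ⋙ DTen.RHomR A (DerivedCategory.Q.obj E) :=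
    { app := fun L => KFlat.HomD.κ E L, naturality := fun _ _ f => KFlat.HomD.κ_naturality E f }
  haveI := KInjLib.isRightDerivedFunctor_of_isIso (W := HomologicalComplex.quasiIso (ModuleCat.{u} A) (ComplexShape.up ℤ))
    (KInjLib.derivingClass_Q (A := ModuleCat.{u} A) KInjLib.enoughKInj_of_grothendieck) α
    fun L hL => KFlat.HomD.isIso_κ_of_isKInjective E L
  exact Functor.HasRightDerivedFunctor.mk' _ α

variable {A : Type u} [CommRing A]

theorem flat_pi {ι : Type} [Fintype ι] (M : ι → Type u) [∀ i, AddCommGroup (M i)] [∀ i, Module A (M i)]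
    [∀ i, Module.Flat A (M i)] : Module.Flat A (∀ i, M i) := by
  classical
  exact Module.Flat.of_linearEquiv (DirectSum.linearEquivFunOnFintype A ι M).symm

/-- The cochains, degree by degree. -/
def cochainEquiv (P W : DRing.Cx A) (i : ℤ) : Cochain P W i ≃ₗ[A] (∀ p : ℤ, P.X p →ₗ[A] W.X (p + i)) where
  toFun z p := (z.v p (p + i) rfl).hom
  invFun f := Cochain.mk fun p q hpq => ModuleCat.ofHom (f p) ≫ eqToHom (by rw [hpq])
  map_add' z z' := rfl
  map_smul' r z := rfl
  left_inv z := by
    ext p q hpq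
    subst hpq
    simp
  right_inv f := by
    funext p
    simp

variable {P W : DRing.Cx A} {a b : ℤ}

/-- Only finitely many degrees of the source matter. -/
noncomputable def restrictEquiv (hP : VanishesOutside P a b) (i : ℤ) :
    (∀ p : ℤ, P.X p →ₗ[A] W.X (p + i)) ≃ₗ[A] (∀ p : Finset.Icc a b, P.X p →ₗ[A] W.X ((p : ℤ) + i)) where
  toFun f p := f p
  invFun f p := if h : p ∈ Finset.Icc a b then f ⟨p, h⟩ else 0
  map_add' _ _ := rfl
  map_smul' _ _ := rfl
  left_inv f := by
    funext p
    by_cases h : p ∈ Finset.Icc a b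
    · simp [h]
    · simp only [h, dite_false]
      haveI : Subsingleton (P.X p) := ModuleCat.subsingleton_of_isZero (hP p (by simp at h; omega))
      exact LinearMap.ext fun x => by rw [Subsingleton.elim x 0, map_zero, map_zero]
  right_inv f := by
    funext p
    simp [p.2]

theorem vanishesOutside_homCx (hP : VanishesOutside P a b) {c d : ℤ} (hW : VanishesOutside W c d) :
    VanishesOutside (DRing.homCx P W) (c - b) (d - a) := by
  intro i hi
  haveI : Subsingleton (Cochain P W i) := by
    refine subsingleton_of_forall_eq 0 fun z => ?_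
    ext p q hpq
    by_cases h : p < a ∨ b < p
    · exact (congrArg ModuleCat.Hom.hom ((hP p h).eq_of_src _ 0)) ▸ rfl
    · exact (congrArg ModuleCat.Hom.hom ((hW q (by omega)).eq_of_tgt _ 0)) ▸ rfl
  exact ModuleCat.isZero_of_subsingleton (ModuleCat.of A (Cochain P W i))

theorem injective_homCx (hP : VanishesOutside P a b) (hF : TermwiseFlat P) (hI : TermwiseInjective W) :
    TermwiseInjective (DRing.homCx P W) := by
  intro i
  haveI := hF
  haveI := hI
  haveI : ∀ p : Finset.Icc a b, Module.Injective A (P.X p →ₗ[A] W.X ((p : ℤ) + i)) := fun p =>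
    @injective_hom A _ (P.X p) (W.X ((p : ℤ) + i)) _ _ _ _ (hF p) (hI _)
  haveI : Module.Injective A (∀ p : Finset.Icc a b, P.X p →ₗ[A] W.X ((p : ℤ) + i)) := inferInstance
  let e : Cochain P W i ≃ₗ[A] (∀ p : Finset.Icc a b, P.X p →ₗ[A] W.X ((p : ℤ) + i)) :=
    (cochainEquiv P W i).trans (restrictEquiv hP i)
  show Module.Injective A (Cochain P W i)
  exact ⟨fun X Y _ _ _ _ f hf g => by
    obtain ⟨h, hh⟩ := Module.Injective.out f hf (e.toLinearMap.comp g)
    exact ⟨e.symm.toLinearMap.comp h, fun x => by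
      show e.symm (h (f x)) = g x
      rw [hh]
      exact e.symm_apply_apply (g x)⟩⟩

theorem flat_homCx [IsNoetherianRing A] (hP : VanishesOutside P a b) (hJ : TermwiseInjective P)
    (hI : TermwiseInjective W) : TermwiseFlat (DRing.homCx P W) := by
  intro i
  haveI := hJ
  haveI := hI
  haveI : ∀ p : Finset.Icc a b, Module.Flat A (P.X p →ₗ[A] W.X ((p : ℤ) + i)) := fun p =>
    @flat_hom A _ _ (P.X p) (W.X ((p : ℤ) + i)) _ _ _ _ (hJ p) (hI _)
  haveI := flat_pi (A := A) fun p : Finset.Icc a b => P.X p →ₗ[A] W.X ((p : ℤ) + i)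
  show Module.Flat A (Cochain P W i)
  exact Module.Flat.of_linearEquiv ((cochainEquiv P W i).trans (restrictEquiv hP i))

variable [IsNoetherianRing A]

/-- The dual of a complex can be computed on any representative. -/
theorem nonempty_rHom_iso (M : DRing.Cx A) [M.IsKInjective] {ω : Dual.D A} (eM : DerivedCategory.Q.obj M ≅ ω)
    (G E : DRing.Cx A) [DRing.HasRHomCx G] (e : DRing.toD E ≅ DRing.toD G) :
    Nonempty ((DRing.RHomCx G).obj ω ≅ DRing.toD (DRing.homCx E M)) := by
  obtain ⟨rG⟩ := KFlat.HomD.nonempty_rHomCx_Q_iso G M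
  obtain ⟨Z, s, hs, g, hg⟩ := DerivedCategory.right_fac e.hom
  haveI : QuasiIso s := (DerivedCategory.isIso_Q_map_iff_quasiIso (C := ModuleCat.{u} A) _).1 hs
  haveI : QuasiIso g := by
    rw [← DerivedCategory.isIso_Q_map_iff_quasiIso]
    have : DerivedCategory.Q.map g = DerivedCategory.Q.map s ≫ e.hom := by rw [hg, IsIso.hom_inv_id_assoc]
    rw [this]
    infer_instance
  haveI := quasiIso_pre M s
  haveI := quasiIso_pre M g
  exact ⟨(DRing.RHomCx G).mapIso eM.symm ≪≫ rG ≪≫ asIso (DerivedCategory.Q.map (pre M g)) ≪≫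
    (asIso (DerivedCategory.Q.map (pre M s))).symm⟩

theorem main {ω : Dual.D A} (hω : Dual.IsDualizing A ω) (G : DRing.Cx A) [DRing.HasRHomCx G]
    (hfin : ∀ i : ℤ, Module.Finite A (Dual.HD A (DRing.toD G) i)) :
    DRing.HasFiniteTorDimCx A (DRing.toD G) ↔ DRing.HasFiniteInjDim A ((DRing.RHomCx G).obj ω) := by
  let M := Dlz27.model hω
  haveI := M.kinj
  haveI := M.isGE
  haveI := M.isLE
  have hW : VanishesOutside M.W M.lo M.hi := fun i hi => by
    rcases hi with h | h
    · exact M.W.isZero_of_isStrictlyGE M.lo i h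
    · exact M.W.isZero_of_isStrictlyLE M.hi i h
  have hI : TermwiseInjective M.W := fun i =>
    (Module.injective_iff_injective_object A (M.W.X i)).2 (M.inj i)
  constructor
  · rintro ⟨a, b, E, hE, hF, ⟨e⟩⟩
    obtain ⟨i⟩ := nonempty_rHom_iso M.W M.e G E e
    exact ⟨_, _, _, vanishesOutside_homCx hE hW, injective_homCx hE hF hI, ⟨i.symm⟩⟩
  · rintro ⟨a, b, J, hJ, hJI, ⟨e⟩⟩
    haveI : DRing.HasRHomCx J := hasRHomCx J
    obtain ⟨i⟩ := nonempty_rHom_iso M.W M.e J J (Iso.refl _)
    obtain ⟨j⟩ := (BC8.HomDual.biduality hω G hfin).2 J ⟨e⟩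
    exact ⟨_, _, _, vanishesOutside_homCx hJ hW, flat_homCx hJ hJI hI, ⟨i.symm ≪≫ j⟩⟩

end Groth.Agent.TorInj9
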